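import Groth.Agent.BlowUpExist.Affine
import Groth.Agent.BlowUpLib.Basic

/-!
# Blow-ups in centres of finite type are proper
-/

set_option autoImplicit false
set_option backward.isDefEq.respectTransparency false
set_option linter.style.haveILetI false

universe u

open CategoryTheory AlgebraicGeometry Limits TopologicalSpace

namespace Groth.Agent.BlowUpExist

theorem surjective_zero {A : Type u} [CommRing A] (I : Ideal A) :
    Function.Surjective (algebraMap A (Rees.deg (reesAlgebra I) 0)) := fun x =>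
  ⟨(x.1 : Polynomial A).coeff 0, Subtype.ext ((eq_mono_of_mem I x.2).trans
    (Subtype.ext (by simp [mono]))).symm⟩

theorem isProper_structMap {A : Type u} [CommRing A] (I : Ideal A) (hI : I.FG) : IsProper (structMap I) := by
  haveI h1 : Algebra.FiniteType A (reesAlgebra I) :=
    (Subalgebra.fg_iff_finiteType _).1 (reesAlgebra.fg hI)
  haveI : IsScalarTower A (Rees.deg (reesAlgebra I) 0) (reesAlgebra I) :=
    IsScalarTower.of_algebraMap_eq (R := A) (S := Rees.deg (reesAlgebra I) 0) (A := reesAlgebra I) fun _ => rfl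
  haveI : Algebra.FiniteType (Rees.deg (reesAlgebra I) 0) (reesAlgebra I) :=
    Algebra.FiniteType.of_restrictScalars_finiteType A _ _
  let q : CommRingCat.of A ⟶ CommRingCat.of (Rees.deg (reesAlgebra I) 0) :=
    CommRingCat.ofHom (algebraMap A (Rees.deg (reesAlgebra I) 0))
  haveI : IsClosedImmersion (Spec.map q) := IsClosedImmersion.spec_of_surjective q (surjective_zero I)
  show IsProper (Proj.toSpecZero _ ≫ Spec.map q)
  infer_instance

theorem isProper_spec {A : CommRingCat.{u}} {Y : Scheme.{u}} (b : Y ⟶ Spec A) (J : (Spec A).IdealSheafData)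
    (hb : BlowUp.IsBlowUp b J) (hJ : (J.ideal ⟨⊤, isAffineOpen_top _⟩).FG) : IsProper b := by
  let I : Ideal A := (J.ideal ⟨⊤, isAffineOpen_top _⟩).map (Scheme.ΓSpecIso A).hom.hom
  have h : J = sheafOf I := by
    refine (Scheme.IdealSheafData.equivOfIsAffine (X := Spec A)).injective ?_
    refine Eq.trans ?_ ((Scheme.IdealSheafData.equivOfIsAffine (X := Spec A)).apply_symm_apply _).symm
    rw [Ideal.map_map, ← CommRingCat.hom_comp]
    erw [Iso.hom_inv_id]
    rw [CommRingCat.hom_id, Ideal.map_id]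
    rfl
  haveI := isProper_structMap I (hJ.map _)
  have h0 := isBlowUp_affine I
  rw [← h] at h0
  obtain ⟨k, hk, -⟩ := h0.2 _ b hb.1
  obtain ⟨l, hl, -⟩ := hb.2 _ (structMap I) h0.1
  have h1 : k ≫ l = 𝟙 _ := (hb.2 _ b hb.1).unique (by rw [Category.assoc, hl, hk]) (Category.id_comp _)
  have h2 : l ≫ k = 𝟙 _ := (h0.2 _ _ h0.1).unique (by rw [Category.assoc, hk, hl]) (Category.id_comp _)
  haveI : IsIso k := ⟨l, h1, h2⟩
  rw [← hk]
  infer_instance

variable {X X' : Scheme.{u}} {b : X' ⟶ X} {𝓘 : X.IdealSheafData}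

/-- a blow-up whose centre is locally finitely generated is proper -/
theorem isProper_of_isBlowUp (hb : BlowUp.IsBlowUp b 𝓘)
    (hfg : ∀ x : X, ∃ U : X.affineOpens, x ∈ U.1 ∧ (𝓘.ideal U).FG) : IsProper b := by
  choose U hU hUfg using hfg
  let 𝒰 : X.OpenCover := Scheme.AffineOpenCover.openCover
    { I₀ := X
      X := fun x => Γ(X, (U x).1)
      f := fun x => (U x).2.fromSpec
      idx := fun x => x
      covers := fun x => by
        show x ∈ Set.range _
        rw [(U x).2.range_fromSpec]; exact hU x }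
  refine (IsZariskiLocalAtTarget.iff_of_openCover (P := @IsProper) 𝒰).2 fun (x : X) => ?_
  have h1 := isProper_spec _ _ (BlowUpLib.isBlowUp_flat (U x).2.fromSpec hb)
    (by rw [ideal_comap_fromSpec]; exact (hUfg x).map _)
  show IsProper (pullback.snd b (U x).2.fromSpec)
  rw [← pullbackSymmetry_hom_comp_fst]
  infer_instance

theorem isProper_of_isFiniteType (hb : BlowUp.IsBlowUp b 𝓘) (hI : BlowUp.IsFiniteTypeIdeal 𝓘) :
    IsProper b := isProper_of_isBlowUp hb fun x => by
  obtain ⟨U, hU, hxU, -⟩ := exists_isAffineOpen_mem_and_subset (X := X) (U := ⊤) (trivial : x ∈ (⊤ : X.Opens))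
  exact ⟨⟨U, hU⟩, hxU, hI _⟩

end Groth.Agent.BlowUpExist
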