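import Groth.Agent.BlowUpExist.Affine
import Groth.Agent.BlowUpLib.Basic
import Mathlib.AlgebraicGeometry.RelativeGluing
import Mathlib.AlgebraicGeometry.Sites.SmallAffineZariski

/-!
# Existence of blow-ups
-/

set_option autoImplicit false
set_option backward.isDefEq.respectTransparency false
set_option linter.style.haveILetI false

universe u

open CategoryTheory AlgebraicGeometry Limits TopologicalSpace

namespace Groth.Agent.BlowUpExist

open Scheme (AffineZariskiSite)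

theorem exists_blowUp_spec (A : CommRingCat.{u}) (J : (Spec A).IdealSheafData) :
    ∃ (X' : Scheme.{u}) (b : X' ⟶ Spec A), BlowUp.IsBlowUp b J := by
  let I : Ideal A := (J.ideal ⟨⊤, isAffineOpen_top _⟩).map (Scheme.ΓSpecIso A).hom.hom
  have h : J = sheafOf I := by
    refine (Scheme.IdealSheafData.equivOfIsAffine (X := Spec A)).injective ?_
    refine Eq.trans ?_ ((Scheme.IdealSheafData.equivOfIsAffine (X := Spec A)).apply_symm_apply _).symm
    rw [Ideal.map_map, ← CommRingCat.hom_comp]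
    erw [Iso.hom_inv_id]
    rw [ CommRingCat.hom_id, Ideal.map_id]
    rfl
  exact ⟨_, _, h ▸ isBlowUp_affine I⟩

theorem exists_blowUp_affine (Y : Scheme.{u}) [IsAffine Y] (J : Y.IdealSheafData) :
    ∃ (X' : Scheme.{u}) (b : X' ⟶ Y), BlowUp.IsBlowUp b J := by
  obtain ⟨X', b, hb⟩ := exists_blowUp_spec _ (J.comap Y.isoSpec.inv)
  refine ⟨pullback Y.isoSpec.hom b, pullback.fst _ _, ?_⟩
  have := BlowUpLib.isBlowUp_flat Y.isoSpec.hom hb
  rwa [← Scheme.IdealSheafData.comap_comp, Iso.hom_inv_id, Scheme.IdealSheafData.comap_id] at this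

variable {X : Scheme.{u}} (𝓘 : X.IdealSheafData)

theorem exists_loc (U : X.AffineZariskiSite) :
    ∃ (X' : Scheme.{u}) (b : X' ⟶ U.1.toScheme), BlowUp.IsBlowUp b (𝓘.comap U.1.ι) :=
  haveI : IsAffine U.1.toScheme := U.2
  exists_blowUp_affine _ _

/-- the blow-up over an affine open -/
noncomputable def loc (U : X.AffineZariskiSite) : Scheme.{u} := (exists_loc 𝓘 U).choose

/-- its structure map -/
noncomputable def locMap (U : X.AffineZariskiSite) : loc 𝓘 U ⟶ U.1.toScheme :=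
  (exists_loc 𝓘 U).choose_spec.choose

theorem isBlowUp_locMap (U : X.AffineZariskiSite) : BlowUp.IsBlowUp (locMap 𝓘 U) (𝓘.comap U.1.ι) :=
  (exists_loc 𝓘 U).choose_spec.choose_spec

theorem cartier_homOfLE {U V : X.AffineZariskiSite} (h : V.1 ≤ U.1) :
    BlowUp.IsEffCartierIdeal ((𝓘.comap U.1.ι).comap (locMap 𝓘 V ≫ X.homOfLE h)) := by
  rw [← Scheme.IdealSheafData.comap_comp, Category.assoc, Scheme.homOfLE_ι,
    Scheme.IdealSheafData.comap_comp]
  exact (isBlowUp_locMap 𝓘 V).1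

/-- the transition map -/
noncomputable def trans {U V : X.AffineZariskiSite} (h : V.1 ≤ U.1) : loc 𝓘 V ⟶ loc 𝓘 U :=
  ((isBlowUp_locMap 𝓘 U).2 _ _ (cartier_homOfLE 𝓘 h)).choose

@[reassoc]
theorem trans_locMap {U V : X.AffineZariskiSite} (h : V.1 ≤ U.1) :
    trans 𝓘 h ≫ locMap 𝓘 U = locMap 𝓘 V ≫ X.homOfLE h :=
  ((isBlowUp_locMap 𝓘 U).2 _ _ (cartier_homOfLE 𝓘 h)).choose_spec.1

theorem trans_eq {U V : X.AffineZariskiSite} (h : V.1 ≤ U.1) (k : loc 𝓘 V ⟶ loc 𝓘 U)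
    (hk : k ≫ locMap 𝓘 U = locMap 𝓘 V ≫ X.homOfLE h) : k = trans 𝓘 h :=
  ((isBlowUp_locMap 𝓘 U).2 _ _ (cartier_homOfLE 𝓘 h)).choose_spec.2 k hk

/-- the functor of local blow-ups -/
noncomputable def functor : X.AffineZariskiSite ⥤ Scheme.{u} where
  obj U := loc 𝓘 U
  map h := trans 𝓘 (AffineZariskiSite.toOpens_mono h.le)
  map_id U := (trans_eq 𝓘 _ _ (by simp)).symm
  map_comp f g := (trans_eq 𝓘 _ _ (by
    rw [Category.assoc, trans_locMap, trans_locMap_assoc, Scheme.homOfLE_homOfLE])).symm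

theorem isPullback_locMap {U V : X.AffineZariskiSite} (h : V.1 ≤ U.1) :
    IsPullback (trans 𝓘 h) (locMap 𝓘 V) (locMap 𝓘 U) (X.homOfLE h) := by
  have hP := BlowUpLib.isBlowUp_flat (X.homOfLE h) (isBlowUp_locMap 𝓘 U)
  rw [← Scheme.IdealSheafData.comap_comp, Scheme.homOfLE_ι] at hP
  obtain ⟨k, hk, -⟩ := (isBlowUp_locMap 𝓘 V).2 _ _ hP.1
  let l : loc 𝓘 V ⟶ pullback (X.homOfLE h) (locMap 𝓘 U) :=
    pullback.lift (locMap 𝓘 V) (trans 𝓘 h) (trans_locMap 𝓘 h).symm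
  have h1 : l ≫ k = 𝟙 _ := ((isBlowUp_locMap 𝓘 V).2 _ _ (isBlowUp_locMap 𝓘 V).1).unique
    (by rw [Category.assoc, hk, pullback.lift_fst]) (Category.id_comp _)
  have h2 : k ≫ l = 𝟙 _ := (hP.2 _ _ hP.1).unique
    (by rw [Category.assoc, pullback.lift_fst, hk]) (Category.id_comp _)
  exact (IsPullback.of_iso_pullback ⟨(trans_locMap 𝓘 h).symm⟩ ⟨l, k, h1, h2⟩
    (pullback.lift_fst _ _ _) (pullback.lift_snd _ _ _)).flip

/-- gluing datum -/
noncomputable def glueData : (AffineZariskiSite.directedCover X).RelativeGluingData where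
  functor := functor 𝓘
  natTrans :=
    { app := fun U => locMap 𝓘 U
      naturality := fun {V U} h => trans_locMap 𝓘 (AffineZariskiSite.toOpens_mono h.le) }
  equifibered := fun {V U} h => isPullback_locMap 𝓘 (AffineZariskiSite.toOpens_mono h.le)

instance : ((glueData 𝓘).functor ⋙ Scheme.forget).IsLocallyDirected :=
  Scheme.Cover.RelativeGluingData.instIsLocallyDirectedI₀CompFunctorForgetOfIsThin ..

/-- the blow-up -/
noncomputable def glued : Scheme.{u} := (glueData 𝓘).glued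

/-- the structure map -/
noncomputable def proj : glued 𝓘 ⟶ X := (glueData 𝓘).toBase

/-- chart -/
noncomputable def emb (U : X.AffineZariskiSite) : loc 𝓘 U ⟶ glued 𝓘 := (glueData 𝓘).cover.f U

instance (U : X.AffineZariskiSite) : IsOpenImmersion (emb 𝓘 U) := (glueData 𝓘).cover.map_prop _

@[reassoc]
theorem emb_proj (U : X.AffineZariskiSite) : emb 𝓘 U ≫ proj 𝓘 = locMap 𝓘 U ≫ U.1.ι :=
  (glueData 𝓘).ι_toBase U

theorem proj_preimage (U : X.AffineZariskiSite) : proj 𝓘 ⁻¹ᵁ U.1 = (emb 𝓘 U).opensRange := by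
  simpa using! (glueData 𝓘).toBase_preimage_eq_opensRange_ι U

theorem cartier_proj : BlowUp.IsEffCartierIdeal (𝓘.comap (proj 𝓘)) := by
  refine ModPairCoprod.cartier_of_cover (glueData 𝓘).cover fun (U : X.AffineZariskiSite) => ?_
  show BlowUp.IsEffCartierIdeal ((𝓘.comap (proj 𝓘)).comap (emb 𝓘 U))
  rw [← Scheme.IdealSheafData.comap_comp, emb_proj, Scheme.IdealSheafData.comap_comp]
  exact (isBlowUp_locMap 𝓘 U).1

/-- a lift over a single affine open -/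
theorem local_lift {W : Scheme.{u}} {g : W ⟶ X} (hg : BlowUp.IsEffCartierIdeal (𝓘.comap g))
    (U : X.AffineZariskiSite) :
    ∃ h : (g ⁻¹ᵁ U.1).toScheme ⟶ glued 𝓘, h ≫ proj 𝓘 = (g ⁻¹ᵁ U.1).ι ≫ g ∧
      ∀ h' : (g ⁻¹ᵁ U.1).toScheme ⟶ glued 𝓘, h' ≫ proj 𝓘 = (g ⁻¹ᵁ U.1).ι ≫ g → h' = h := by
  obtain ⟨k, hk, huniq⟩ := (isBlowUp_locMap 𝓘 U).2 _ (g ∣_ U.1) (by
    rw [← Scheme.IdealSheafData.comap_comp, morphismRestrict_ι, Scheme.IdealSheafData.comap_comp]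
    exact BlowUpLib.cartier_comap_flat hg _)
  refine ⟨k ≫ emb 𝓘 U, by rw [Category.assoc, emb_proj, reassoc_of% hk, morphismRestrict_ι], ?_⟩
  intro h' hh'
  have hr : Set.range h' ⊆ Set.range (emb 𝓘 U) := by
    rintro _ ⟨z, rfl⟩
    show h' z ∈ (emb 𝓘 U).opensRange
    rw [← proj_preimage]
    show proj 𝓘 (h' z) ∈ U.1
    rw [← Scheme.Hom.comp_apply, hh']
    exact z.2
  have hfac := IsOpenImmersion.lift_fac (emb 𝓘 U) h' hr
  rw [← huniq (IsOpenImmersion.lift (emb 𝓘 U) h' hr) ?_, hfac]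
  show _ ≫ locMap 𝓘 U = g ∣_ U.1
  refine (cancel_mono U.1.ι).1 ?_
  rw [Category.assoc, morphismRestrict_ι, ← emb_proj, reassoc_of% hfac, hh']

/-- the preimages of affine opens cover -/
noncomputable def preCover {W : Scheme.{u}} (g : W ⟶ X) : W.OpenCover :=
  W.openCoverOfIsOpenCover (fun U : X.AffineZariskiSite => g ⁻¹ᵁ U.1) (IsOpenCover.mk (by
    rw [eq_top_iff]
    intro w _
    obtain ⟨U, hU, hwU, -⟩ := exists_isAffineOpen_mem_and_subset (X := X) (U := ⊤)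
      (trivial : g w ∈ (⊤ : X.Opens))
    exact Opens.mem_iSup.2 ⟨⟨U, hU⟩, hwU⟩))

theorem lift_unique' {W : Scheme.{u}} {g : W ⟶ X} (hg : BlowUp.IsEffCartierIdeal (𝓘.comap g))
    (h h' : W ⟶ glued 𝓘) (hh : h ≫ proj 𝓘 = g) (hh' : h' ≫ proj 𝓘 = g) : h = h' := by
  refine (preCover g).hom_ext _ _ fun (U : X.AffineZariskiSite) => ?_
  obtain ⟨l, -, hl⟩ := local_lift 𝓘 hg U
  show (g ⁻¹ᵁ U.1).ι ≫ h = (g ⁻¹ᵁ U.1).ι ≫ h'
  exact (hl _ (by rw [Category.assoc, hh])).trans (hl _ (by rw [Category.assoc, hh'])).symm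

theorem exists_lift' {W : Scheme.{u}} {g : W ⟶ X} (hg : BlowUp.IsEffCartierIdeal (𝓘.comap g)) :
    ∃ h : W ⟶ glued 𝓘, h ≫ proj 𝓘 = g := by
  choose l hl using fun U : X.AffineZariskiSite => local_lift 𝓘 hg U
  let 𝒰 := preCover g
  let m : ∀ i : 𝒰.I₀, 𝒰.X i ⟶ glued 𝓘 := fun i => l i
  have hm : ∀ i : 𝒰.I₀, m i ≫ proj 𝓘 = 𝒰.f i ≫ g := fun i => (hl i).1
  refine ⟨𝒰.glueMorphisms m fun i k => ?_, 𝒰.hom_ext _ _ fun i => by
    rw [Scheme.Cover.ι_glueMorphisms_assoc, hm]⟩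
  refine lift_unique' 𝓘 (g := pullback.fst (𝒰.f i) (𝒰.f k) ≫ 𝒰.f i ≫ g) ?_ _ _ ?_ ?_
  · rw [Scheme.IdealSheafData.comap_comp, Scheme.IdealSheafData.comap_comp]
    exact BlowUpLib.cartier_comap_flat (BlowUpLib.cartier_comap_flat hg _) _
  · rw [Category.assoc, hm]
  · rw [Category.assoc, hm, pullback.condition_assoc]

theorem isBlowUp_proj : BlowUp.IsBlowUp (proj 𝓘) 𝓘 := by
  refine ⟨cartier_proj 𝓘, fun W g hg => ?_⟩
  obtain ⟨h, hh⟩ := exists_lift' 𝓘 hg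
  exact ⟨h, hh, fun h' hh' => lift_unique' 𝓘 hg h' h hh' hh⟩

theorem exists_isBlowUp (X : Scheme.{u}) (𝓘 : X.IdealSheafData) :
    ∃ (X' : Scheme.{u}) (b : X' ⟶ X), BlowUp.IsBlowUp b 𝓘 :=
  ⟨glued 𝓘, proj 𝓘, isBlowUp_proj 𝓘⟩

end Groth.Agent.BlowUpExist
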