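import Groth.Agent.BlowUpExist.ReesAlg
import Groth.Agent.RelProjLib.Glue
import Groth.Agent.BlowUpExist.Global

/-!
Blow-ups in ideals of finite type are projective.
-/

set_option autoImplicit false
set_option backward.isDefEq.respectTransparency false
set_option backward.isDefEq.respectTransparency.types false
set_option linter.style.haveILetI false
set_option maxHeartbeats 1000000

universe u

open CategoryTheory CategoryTheory.Limits AlgebraicGeometry TopologicalSpace Opposite Polynomial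
open AlgebraicGeometry.Scheme AlgebraicGeometry.Scheme.AffineZariskiSite
open scoped HomogeneousIdeal

noncomputable section

namespace Groth.Agent.BlowUpExist

variable {X X' P : Scheme.{u}} {𝓘 : X.IdealSheafData} {b : X' ⟶ X} {q : P ⟶ X}

/-- a morphism which is the blow-up over every affine open is the blow-up -/
theorem exists_iso_of_local (hb : BlowUp.IsBlowUp b 𝓘)
    (T : X.affineOpens → Scheme.{u}) (m : ∀ U : X.affineOpens, T U ⟶ Spec Γ(X, U.1))
    (k : ∀ U : X.affineOpens, T U ⟶ P) (hk : ∀ U, IsPullback (m U) (k U) U.2.fromSpec q)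
    (hm : ∀ U, BlowUp.IsBlowUp (m U) (𝓘.comap U.2.fromSpec)) :
    ∃ e : X' ≅ P, e.hom ≫ q = b := by
  haveI : ∀ U : X.affineOpens, IsOpenImmersion (k U) := fun U =>
    MorphismProperty.of_isPullback (hk U) (inferInstance : IsOpenImmersion U.2.fromSpec)
  let 𝒱 : P.OpenCover := Scheme.Cover.mkOfCovers X.affineOpens T k (fun x => by
    obtain ⟨_, ⟨U, hU, rfl⟩, hxU, -⟩ :=
      X.isBasis_affineOpens.exists_subset_of_mem_open (Set.mem_univ (q x)) isOpen_univ
    obtain ⟨z, hz⟩ : q x ∈ Set.range hU.fromSpec := by rw [hU.range_fromSpec]; exact hxU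
    obtain ⟨t, -, ht⟩ := Scheme.Pullback.exists_preimage_pullback z x hz
    exact ⟨⟨U, hU⟩, (hk ⟨U, hU⟩).isoPullback.inv t, by
      rw [← Scheme.Hom.comp_apply, IsPullback.isoPullback_inv_snd, ht]⟩) (fun _ => inferInstance)
  have hq : BlowUp.IsEffCartierIdeal (𝓘.comap q) := ModPairCoprod.cartier_of_cover 𝒱 fun (U : X.affineOpens) => by
    show BlowUp.IsEffCartierIdeal ((𝓘.comap q).comap (k U))
    rw [← Scheme.IdealSheafData.comap_comp, ← (hk U).w, Scheme.IdealSheafData.comap_comp]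
    exact (hm U).1
  obtain ⟨h, hh, -⟩ := hb.2 P q hq
  let 𝒲 : X'.OpenCover := Scheme.Cover.mkOfCovers X.affineOpens (fun U => pullback U.2.fromSpec b)
    (fun U => pullback.snd U.2.fromSpec b) (fun x => by
    obtain ⟨_, ⟨U, hU, rfl⟩, hxU, -⟩ :=
      X.isBasis_affineOpens.exists_subset_of_mem_open (Set.mem_univ (b x)) isOpen_univ
    obtain ⟨z, hz⟩ : b x ∈ Set.range hU.fromSpec := by rw [hU.range_fromSpec]; exact hxU
    obtain ⟨t, -, ht⟩ := Scheme.Pullback.exists_preimage_pullback z x hz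
    exact ⟨⟨U, hU⟩, t, ht⟩) (fun _ => inferInstance)
  haveI : IsIso h := by
    refine (IsZariskiLocalAtTarget.iff_of_openCover (P := MorphismProperty.isomorphisms Scheme.{u}) 𝒲).2
      fun (U : X.affineOpens) => ?_
    let b' := pullback.fst U.2.fromSpec b
    have hb' : BlowUp.IsBlowUp b' (𝓘.comap U.2.fromSpec) := BlowUpLib.isBlowUp_flat U.2.fromSpec hb
    let φ : T U ⟶ pullback U.2.fromSpec b := pullback.lift (m U) (k U ≫ h) (by rw [Category.assoc, hh, (hk U).w])
    have hφ : φ ≫ b' = m U := pullback.lift_fst _ _ _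
    obtain ⟨ψ, hψ, -⟩ := (hm U).2 _ b' hb'.1
    have h1 : φ ≫ ψ = 𝟙 _ := by
      obtain ⟨w, hw, huniq⟩ := (hm U).2 _ (m U) (hm U).1
      exact (huniq _ (show (φ ≫ ψ) ≫ m U = m U by rw [Category.assoc, hψ, hφ])).trans
        (huniq _ (Category.id_comp _)).symm
    have h2 : ψ ≫ φ = 𝟙 _ := by
      obtain ⟨w, hw, huniq⟩ := hb'.2 _ b' hb'.1
      exact (huniq _ (show (ψ ≫ φ) ≫ b' = b' by rw [Category.assoc, hφ, hψ])).trans
        (huniq _ (Category.id_comp _)).symm
    haveI : IsIso φ := ⟨ψ, h1, h2⟩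
    have hsq : IsPullback φ (k U) (pullback.snd U.2.fromSpec b) h := by
      refine IsPullback.of_right ?_ (pullback.lift_snd _ _ _) (IsPullback.of_hasPullback U.2.fromSpec b)
      rw [hh, show φ ≫ pullback.fst U.2.fromSpec b = m U from hφ]
      exact hk U
    show IsIso (pullback.snd h (pullback.snd U.2.fromSpec b))
    rw [← hsq.flip.isoPullback_inv_snd]
    infer_instance
  exact ⟨(asIso h).symm, by rw [Iso.symm_hom, asIso_inv, IsIso.inv_comp_eq, hh]⟩

variable {Q : RelSpec.QCAlg X} (γ : (toOpensFunctor X).op ⋙ Q.presheaf ≅ reesFun 𝓘)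
  (hγ : Functor.whiskerLeft (toOpensFunctor X).op Q.str ≫ γ.hom = reesStr 𝓘)

/-- the graded comparison over an affine open -/
def grHom (U : X.Opens) (hU : IsAffineOpen U) :
    Rees.deg (reesAlgebra (idl 𝓘 ⟨U, hU⟩)) →+*ᵍ (reesGr γ hγ).deg U hU :=
  { (secEquiv γ U hU).symm.toRingHom with
    map_mem := fun {d x} hx => show secEquiv γ U hU ((secEquiv γ U hU).symm x) ∈ _ by
      rw [RingEquiv.apply_symm_apply]; exact hx }

theorem isBlowUp_affBase (U : X.affineOpens) :
    BlowUp.IsBlowUp (RelProjLib.affBase (reesGr γ hγ) U.1 U.2) (𝓘.comap U.2.fromSpec) := by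
  let I := idl 𝓘 ⟨U.1, U.2⟩
  let e := secEquiv γ U.1 U.2
  let ψ := grHom γ hγ U.1 U.2
  have hsurj : ∀ x, ψ (e x) = x := fun x => e.symm_apply_apply x
  have hbij : ∀ n : ℕ, 0 < n → Set.BijOn ψ (Rees.deg (reesAlgebra I) n) ((reesGr γ hγ).deg U.1 U.2 n) :=
    fun n _ => ⟨fun x hx => Graded.map_mem ψ hx, fun x _ y _ hxy => e.symm.injective hxy,
      fun x hx => ⟨e x, hx, hsurj x⟩⟩
  have hψ : ((reesGr γ hγ).deg U.1 U.2)₊ ≤ ((Rees.deg (reesAlgebra I))₊).map ψ := by
    rw [HomogeneousIdeal.irrelevant_le]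
    intro i hi x hx
    rw [← hsurj x]
    exact Ideal.mem_map_of_mem _ (HomogeneousIdeal.mem_irrelevant_of_mem _ hi hx)
  haveI := RelProjLib.isIso_map_of_bijOn ψ hbij hψ
  have hcomp : RelProjLib.affBase (reesGr γ hγ) U.1 U.2 = Proj.map ψ hψ ≫ structMap I := by
    refine Eq.symm ((RelProjLib.map_toBase ψ hψ (a := CommRingCat.ofHom (algebraMap Γ(X, U.1) (Rees.deg (reesAlgebra I) 0)))
      (b := (reesGr γ hγ).strZero U.1 U.2) (ρ := 𝟙 _) ?_).trans ?_)
    · rw [Category.id_comp]
      refine CommRingCat.hom_ext (RingHom.ext fun r => Subtype.ext ?_)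
      show e.symm (algebraMap _ (reesAlgebra I) r) = (Q.str.app (op U.1)).hom r
      rw [← secEquiv_str γ hγ U.1 U.2 r]
      exact e.symm_apply_apply _
    · rw [Spec.map_id]
      exact Category.comp_id _
  have hs : sheafOf I = 𝓘.comap U.2.fromSpec := by
    refine (Scheme.IdealSheafData.equivOfIsAffine (X := Spec Γ(X, U.1))).injective ?_
    exact ((Scheme.IdealSheafData.equivOfIsAffine (X := Spec Γ(X, U.1))).apply_symm_apply _).trans
      (ideal_comap_fromSpec 𝓘 U).symm
  rw [hcomp, ← hs]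
  have hb := isBlowUp_affine I
  refine ⟨?_, fun Y g hg => ?_⟩
  · rw [Scheme.IdealSheafData.comap_comp]
    exact BlowUpLib.cartier_comap_flat hb.1 _
  · obtain ⟨l, hl, huniq⟩ := hb.2 Y g hg
    refine ⟨l ≫ inv (Proj.map ψ hψ), ?_, fun l' hl' => ?_⟩
    · show (l ≫ inv (Proj.map ψ hψ)) ≫ Proj.map ψ hψ ≫ structMap I = g
      rw [Category.assoc, IsIso.inv_hom_id_assoc]
      exact hl
    · rw [← huniq (l' ≫ Proj.map ψ hψ) ((Category.assoc _ _ _).trans hl'), Category.assoc, IsIso.hom_inv_id,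
        Category.comp_id]

theorem isProjective_of_isBlowUp (h𝓘 : BlowUp.IsFiniteTypeIdeal 𝓘) (hb : BlowUp.IsBlowUp b 𝓘) :
    RelProj.IsProjective b := by
  classical
  obtain ⟨Q, γ, hγ⟩ := SymAlg.exists_qcAlg (coequifibered_reesStr 𝓘)
  obtain ⟨P, p, ch, hP⟩ := RelProjLib.exists_isRelProj (reesGr γ hγ)
  obtain ⟨e, he⟩ := exists_iso_of_local hb _ _ _ (fun U : X.affineOpens => RelProjLib.isPullback_emb hP U.1 U.2)
    (fun U => isBlowUp_affBase γ hγ U)
  refine ⟨reesGr γ hγ, P, p, ch, e, ?_, ?_, hP, he⟩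
  · intro U hU
    let I := idl 𝓘 ⟨U, hU⟩
    let eq := secEquiv γ U hU
    refine eq_top_iff.2 fun x _ => ?_
    rw [← eq.symm_apply_apply x]
    have h1 : ∀ f : reesAlgebra I, eq.symm f ∈
        Subring.closure ((SetLike.coe ((reesGr γ hγ).deg U hU 0) : Set (Q.presheaf.obj (op U))) ∪ (SetLike.coe ((reesGr γ hγ).deg U hU 1) : Set (Q.presheaf.obj (op U)))) := by
      rintro ⟨f, hf⟩
      have hfa : f ∈ Algebra.adjoin Γ(X, U) (Submodule.map (monomial 1 : Γ(X, U) →ₗ[Γ(X, U)] Γ(X, U)[X]) I : Set Γ(X, U)[X]) :=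
        (adjoin_monomial_eq_reesAlgebra I).symm ▸ hf
      revert hf
      induction hfa using Algebra.adjoin_induction with
      | mem f hf =>
        intro hf'
        refine Subring.subset_closure (Or.inr ?_)
        show eq (eq.symm ⟨f, hf'⟩) ∈ Rees.deg (reesAlgebra I) 1
        rw [RingEquiv.apply_symm_apply]
        obtain ⟨c, -, rfl⟩ := hf
        intro m hm
        have hm1 : 1 ≠ m := fun h => hm h.symm
        simp [coeff_monomial, hm1]
      | algebraMap r =>
        intro hf'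
        refine Subring.subset_closure (Or.inl ?_)
        show eq (eq.symm ⟨_, hf'⟩) ∈ Rees.deg (reesAlgebra I) 0
        rw [RingEquiv.apply_symm_apply]
        intro m hm
        exact (coeff_C).trans (if_neg hm)
      | add f g hfm hgm ihf ihg =>
        intro hf'
        have h1 : f ∈ reesAlgebra I := adjoin_monomial_eq_reesAlgebra I ▸ hfm
        have h2 : g ∈ reesAlgebra I := adjoin_monomial_eq_reesAlgebra I ▸ hgm
        rw [show (⟨f + g, hf'⟩ : reesAlgebra I) = ⟨f, h1⟩ + ⟨g, h2⟩ from rfl, map_add]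
        exact add_mem (ihf h1) (ihg h2)
      | mul f g hfm hgm ihf ihg =>
        intro hf'
        have h1 : f ∈ reesAlgebra I := adjoin_monomial_eq_reesAlgebra I ▸ hfm
        have h2 : g ∈ reesAlgebra I := adjoin_monomial_eq_reesAlgebra I ▸ hgm
        rw [show (⟨f * g, hf'⟩ : reesAlgebra I) = ⟨f, h1⟩ * ⟨g, h2⟩ from rfl, map_mul]
        exact mul_mem (ihf h1) (ihg h2)
    exact h1 _
  · intro U hU
    let I := idl 𝓘 ⟨U, hU⟩
    let eq := secEquiv γ U hU
    obtain ⟨s, hs⟩ := h𝓘 ⟨U, hU⟩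
    let t : s → Q.presheaf.obj (op U) := fun c => eq.symm (tt I c.1 (hs.le (Submodule.subset_span c.2)))
    refine ⟨Finset.univ.image t, ?_, fun x hx => ?_⟩
    · intro z hz
      obtain ⟨c, -, rfl⟩ := Finset.mem_image.1 (Finset.mem_coe.1 hz)
      show eq (t c) ∈ Rees.deg (reesAlgebra I) 1
      rw [RingEquiv.apply_symm_apply]
      exact tt_mem I _ _
    have hx' : eq x ∈ Rees.deg (reesAlgebra I) 1 := hx
    have key : ∀ (a : Γ(X, U)) (ha : a ∈ I), ∃ c : Q.presheaf.obj (op U) → Γ(X, U),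
        eq.symm (tt I a ha) = ∑ z ∈ Finset.univ.image t, (Q.str.app (op U)).hom (c z) * z := by
      intro a ha
      obtain ⟨w, hw⟩ : ∃ w : s → Γ(X, U), ∑ c, w c • c.1 = a :=
        (Submodule.mem_span_range_iff_exists_fun Γ(X, U) (v := fun c : s => (c.1 : Γ(X, U)))).1 (by
          rw [show Set.range (fun c : s => (c.1 : Γ(X, U))) = (s : Set Γ(X, U)) from Subtype.range_coe]
          exact hs.ge ha)
      refine ⟨fun z => ∑ c : s, if t c = z then w c else 0, ?_⟩
      have e1 : eq.symm (tt I a ha) = ∑ c : s, (Q.str.app (op U)).hom (w c) * t c := by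
        refine eq.injective ?_
        simp only [map_sum, map_mul, t, eq, RingEquiv.apply_symm_apply, secEquiv_str γ hγ]
        refine Subtype.ext ?_
        rw [AddSubmonoidClass.coe_finsetSum]
        simp only [Subalgebra.coe_mul, Subalgebra.coe_algebraMap, Polynomial.algebraMap_eq, tt, mono, C_mul_monomial]
        rw [← map_sum]
        simp only [← hw, smul_eq_mul]
      rw [e1]
      simp only [map_sum, Finset.sum_mul]
      rw [Finset.sum_comm]
      refine Finset.sum_congr rfl fun c _ => ?_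
      rw [Finset.sum_eq_single (t c)]
      · simp
      · intro z _ hz
        rw [if_neg (Ne.symm hz), map_zero, zero_mul]
      · intro hc
        exact absurd (Finset.mem_image_of_mem t (Finset.mem_univ c)) hc
    have hc1 : ((eq x : reesAlgebra I) : Γ(X, U)[X]).coeff 1 ∈ I := by simpa using coeff_mem I 1 (eq x)
    obtain ⟨c, hc⟩ := key _ hc1
    refine ⟨c, Eq.trans ?_ hc⟩
    refine eq.injective ?_
    rw [RingEquiv.apply_symm_apply]
    exact eq_mono_of_mem I hx'

end Groth.Agent.BlowUpExist
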