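import Groth.Prelude.Def_Rees
import Mathlib

/-!
# Affine charts of a blow-up: degree zero localizations of a Rees algebra
-/

set_option autoImplicit false

universe u

open Polynomial HomogeneousLocalization

namespace Groth.Agent.BlowUpExist

variable {A : Type u} [CommRing A] (I : Ideal A)

local notation "𝒜" => Rees.deg (reesAlgebra I)

lemma mem_deg_iff (n : ℕ) (f : reesAlgebra I) :
    f ∈ 𝒜 n ↔ ∀ m : ℕ, m ≠ n → (f : A[X]).coeff m = 0 := Iff.rfl

/-- a homogeneous element -/
noncomputable def mono (n : ℕ) (c : A) (hc : c ∈ I ^ n) : reesAlgebra I :=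
  ⟨monomial n c, reesAlgebra.monomial_mem.mpr hc⟩

lemma mono_mem (n : ℕ) (c : A) (hc : c ∈ I ^ n) : mono I n c hc ∈ 𝒜 n := fun m hm => by
  have hm' : n ≠ m := Ne.symm hm
  simp [mono, coeff_monomial, hm']

lemma coeff_mem (n : ℕ) (x : reesAlgebra I) : (x : A[X]).coeff n ∈ I ^ n := x.2 n

lemma eq_mono_of_mem {n : ℕ} {x : reesAlgebra I} (hx : x ∈ 𝒜 n) :
    x = mono I n ((x : A[X]).coeff n) (coeff_mem I n x) := by
  refine Subtype.ext (Polynomial.ext fun m => ?_)
  simp only [mono, coeff_monomial]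
  split_ifs with h
  · rw [h]
  · exact hx m (Ne.symm h)

/-- the degree one element of an element of the ideal -/
noncomputable def tt (a : A) (ha : a ∈ I) : reesAlgebra I := mono I 1 a (by simpa using ha)

lemma tt_mem (a : A) (ha : a ∈ I) : tt I a ha ∈ 𝒜 1 := mono_mem I 1 a _

lemma tt_pow (a : A) (ha : a ∈ I) (n : ℕ) :
    tt I a ha ^ n = mono I n (a ^ n) (Ideal.pow_mem_pow ha n) := by
  refine Subtype.ext ?_
  simp [tt, mono, monomial_pow]

/-- evaluation at `X = 1` -/
noncomputable def ev1 : reesAlgebra I →+* A :=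
  (Polynomial.evalRingHom (1 : A)).comp (reesAlgebra I).val.toRingHom

lemma ev1_mono (n : ℕ) (c : A) (hc : c ∈ I ^ n) : ev1 I (mono I n c hc) = c := by
  simp [ev1, mono]

lemma ev1_algebraMap (x : A) : ev1 I (algebraMap A (reesAlgebra I) x) = x := by
  simp [ev1]

lemma ev1_tt (a : A) (ha : a ∈ I) : ev1 I (tt I a ha) = a := ev1_mono I _ _ _

variable (a : A) (ha : a ∈ I)

local notation "Ch" => HomogeneousLocalization.Away 𝒜 (tt I a ha)

/-- the chart as an algebra over the base -/
noncomputable def fromA : A →+* Ch :=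
  (HomogeneousLocalization.fromZeroRingHom 𝒜 _).comp (algebraMap A (𝒜 0))

lemma val_fromA (x : A) :
    (fromA I a ha x).val = algebraMap (reesAlgebra I) _ (algebraMap A (reesAlgebra I) x) := by
  show Localization.mk _ _ = _
  rw [← Localization.mk_one_eq_algebraMap]
  rfl

lemma val_mul_pow (n : ℕ) (x : reesAlgebra I) (hx : x ∈ 𝒜 (n • 1)) :
    Away.mk 𝒜 (tt_mem I a ha) n x hx * fromA I a ha (a ^ n) = fromA I a ha (ev1 I x) := by
  refine HomogeneousLocalization.val_injective _ ?_
  rw [HomogeneousLocalization.val_mul, val_fromA, val_fromA, Away.val_mk,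
    ← Localization.mk_one_eq_algebraMap, ← Localization.mk_one_eq_algebraMap, Localization.mk_mul,
    Localization.mk_eq_mk_iff, Localization.r_iff_exists]
  refine ⟨1, ?_⟩
  have hx' : x ∈ 𝒜 n := by simpa using hx
  obtain ⟨c, hc, rfl⟩ : ∃ c hc, x = mono I n c hc := ⟨_, _, eq_mono_of_mem I hx'⟩
  simp only [OneMemClass.coe_one, one_mul, mul_one, ev1_mono, tt_pow]
  refine Subtype.ext ?_
  simp [mono, monomial_mul_C, ← map_pow, mul_comm c]

lemma fromA_mem_span {x : A} (hx : x ∈ I) : fromA I a ha x ∈ Ideal.span {fromA I a ha a} := by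
  rw [Ideal.mem_span_singleton']
  refine ⟨Away.mk 𝒜 (tt_mem I a ha) 1 (tt I x hx) (by simpa using tt_mem I x hx), ?_⟩
  have := val_mul_pow I a ha 1 (tt I x hx) (by simpa using tt_mem I x hx)
  rwa [pow_one, ev1_tt] at this

lemma map_fromA_eq : I.map (fromA I a ha) = Ideal.span {fromA I a ha a} :=
  le_antisymm (Ideal.map_le_iff_le_comap.2 fun _ hx => fromA_mem_span I a ha hx)
    ((Ideal.span_singleton_le_iff_mem _).2 (Ideal.mem_map_of_mem _ ha))

lemma fromA_mem_nonZeroDivisors : fromA I a ha a ∈ nonZeroDivisors Ch := by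
  suffices h : ∀ z : Ch, z * fromA I a ha a = 0 → z = 0 from
    ⟨fun z hz => h z ((mul_comm z (fromA I a ha a)).trans hz), h⟩
  intro z hz
  obtain ⟨n, x, hx, rfl⟩ := Away.mk_surjective 𝒜 (tt_mem I a ha) z
  have hx' : x ∈ 𝒜 n := by simpa using hx
  obtain ⟨c, hc, rfl⟩ : ∃ c hc, x = mono I n c hc := ⟨_, _, eq_mono_of_mem I hx'⟩
  have h := congrArg HomogeneousLocalization.val hz
  rw [HomogeneousLocalization.val_mul, HomogeneousLocalization.val_zero, val_fromA, Away.val_mk,
    ← Localization.mk_one_eq_algebraMap, Localization.mk_mul, ← Localization.mk_zero 1,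
    Localization.mk_eq_mk_iff, Localization.r_iff_exists] at h
  obtain ⟨⟨_, k, rfl⟩, h⟩ := h
  refine HomogeneousLocalization.val_injective _ ?_
  rw [Away.val_mk, HomogeneousLocalization.val_zero, ← Localization.mk_zero 1,
    Localization.mk_eq_mk_iff, Localization.r_iff_exists]
  refine ⟨⟨tt I a ha ^ (k + 1), k + 1, rfl⟩, ?_⟩
  simp only [OneMemClass.coe_one, one_mul, mul_zero, tt_pow] at h ⊢
  have hp := congrArg Subtype.val h
  simp [mono, monomial_mul_monomial, monomial_mul_C, monomial_eq_zero_iff] at hp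
  refine Subtype.ext ?_
  simp [mono, monomial_mul_monomial, monomial_eq_zero_iff, ← hp]
  ring

/-! ### morphisms out of a chart -/

variable {R : Type u} [CommRing R] (ψ : A →+* R) {g : R}

lemma pow_mem_span (hI : I.map ψ ≤ Ideal.span {g}) {n : ℕ} {c : A} (hc : c ∈ I ^ n) :
    ψ c ∈ Ideal.span {g ^ n} := by
  rw [← Ideal.span_singleton_pow]
  exact Ideal.pow_right_mono hI n (Ideal.map_pow ψ I n ▸ Ideal.mem_map_of_mem ψ hc)

/-- a morphism out of a chart -/
theorem exists_chartHom (hg : ψ a ∈ nonZeroDivisors R) (hgen : I.map ψ = Ideal.span {ψ a}) :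
    ∃ χ : Ch →+* R, χ.comp (fromA I a ha) = ψ := by
  let ι := algebraMap R (Localization.Away (ψ a))
  have hι : Function.Injective ι := IsLocalization.injective _ (Submonoid.powers_le.2 hg)
  have hu : IsUnit (((ι.comp ψ).comp (ev1 I)) (tt I a ha)) := by
    simpa [ev1_tt, ι] using IsLocalization.Away.algebraMap_isUnit (S := Localization.Away (ψ a)) (ψ a)
  let L := Localization.awayLift ((ι.comp ψ).comp (ev1 I)) (tt I a ha) hu
  have key : ∀ z : Ch, ∃ r, ι r = L z.val := fun z => by
    obtain ⟨n, x, hx, rfl⟩ := Away.mk_surjective 𝒜 (tt_mem I a ha) z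
    have hx' : x ∈ 𝒜 n := by simpa using hx
    obtain ⟨c, hc, rfl⟩ : ∃ c hc, x = mono I n c hc := ⟨_, _, eq_mono_of_mem I hx'⟩
    obtain ⟨r, hr⟩ := Ideal.mem_span_singleton'.1 (pow_mem_span I ψ hgen.le hc)
    refine ⟨r, ?_⟩
    rw [Away.val_mk, Localization.mk_eq_mk']
    symm
    simp only [L, Localization.awayLift, IsLocalization.Away.lift]
    rw [IsLocalization.lift_mk'_spec]
    simp [ι, ev1_mono, ev1_tt, ← hr, mul_comm]
  choose f hf using key
  refine ⟨{ toFun := f
            map_one' := hι (by rw [hf, HomogeneousLocalization.val_one, map_one, map_one])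
            map_mul' := fun x y =>
              hι (by rw [hf, HomogeneousLocalization.val_mul, map_mul, map_mul, hf, hf])
            map_zero' := hι (by rw [hf, HomogeneousLocalization.val_zero, map_zero, map_zero])
            map_add' := fun x y =>
              hι (by rw [hf, HomogeneousLocalization.val_add, map_add, map_add, hf, hf]) },
    RingHom.ext fun x => hι ?_⟩
  show ι (f (fromA I a ha x)) = ι (ψ x)
  simp only [hf, val_fromA, L, Localization.awayLift, IsLocalization.Away.lift_eq]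
  simp [ev1_algebraMap]

/-- morphisms out of a chart are determined by the base -/
theorem chartHom_ext (hg : ψ a ∈ nonZeroDivisors R) (χ χ' : Ch →+* R)
    (h : χ.comp (fromA I a ha) = ψ) (h' : χ'.comp (fromA I a ha) = ψ) : χ = χ' := by
  refine RingHom.ext fun z => ?_
  obtain ⟨n, x, hx, rfl⟩ := Away.mk_surjective 𝒜 (tt_mem I a ha) z
  have hn := val_mul_pow I a ha n x hx
  have e1 := congrArg χ hn
  have e2 := congrArg χ' hn
  rw [map_mul, ← RingHom.comp_apply χ, ← RingHom.comp_apply χ (fromA I a ha), h] at e1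
  rw [map_mul, ← RingHom.comp_apply χ', ← RingHom.comp_apply χ' (fromA I a ha), h'] at e2
  rw [← e2, map_pow] at e1
  exact (mul_cancel_right_mem_nonZeroDivisors (pow_mem hg n)).1 e1

lemma mul_fromA (b : A) (hb : b ∈ I) :
    Away.mk 𝒜 (tt_mem I a ha) 1 (tt I b hb) (by simpa using tt_mem I b hb) * fromA I a ha a =
      fromA I a ha b := by
  simpa [ev1_tt] using val_mul_pow I a ha 1 (tt I b hb) (by simpa using tt_mem I b hb)

lemma mono_succ_mem_span (n : ℕ) (c : A) (hc : c ∈ I ^ (n + 1)) :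
    mono I (n + 1) c hc ∈ Ideal.span (Set.range fun x : I => tt I (x : A) x.2) := by
  refine Submodule.mul_induction_on'
    (C := fun d hd => mono I (n + 1) d (pow_succ' I n ▸ hd) ∈
      Ideal.span (Set.range fun x : I => tt I (x : A) x.2))
    (fun b hb e he => ?_) (fun p hp q hq hp' hq' => ?_) (pow_succ' I n ▸ hc : c ∈ I * I ^ n)
  · rw [show mono I (n + 1) (b * e) _ = tt I b hb * mono I n e he from
      Subtype.ext (by simp [tt, mono, monomial_mul_monomial, add_comm])]
    exact Ideal.mul_mem_right _ _ (Ideal.subset_span ⟨⟨b, hb⟩, rfl⟩)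
  · rw [show mono I (n + 1) (p + q) _ =
        mono I (n + 1) p (pow_succ' I n ▸ hp) + mono I (n + 1) q (pow_succ' I n ▸ hq) from
      Subtype.ext (by simp [mono])]
    exact add_mem hp' hq'

lemma irrelevant_le_span :
    (HomogeneousIdeal.irrelevant 𝒜).toIdeal ≤
      Ideal.span (Set.range fun x : I => tt I (x : A) x.2) := by
  classical
  intro x hx
  have h0 : (DirectSum.decompose 𝒜 x 0 : reesAlgebra I) = 0 := hx
  rw [← DirectSum.sum_support_decompose 𝒜 x]
  refine Ideal.sum_mem _ fun i _ => ?_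
  obtain rfl | ⟨n, rfl⟩ := i.eq_zero_or_eq_succ_pred.imp_right (fun h => (⟨_, h⟩ : ∃ n, i = n + 1))
  · rw [h0]; exact zero_mem _
  · rw [eq_mono_of_mem I (DirectSum.decompose 𝒜 x (n + 1)).2]
    exact mono_succ_mem_span I n _ _

end Groth.Agent.BlowUpExist
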