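import Groth.Agent.BlowUpExist.Algebra
import Groth.Agent.BlowUpLib.Cartier
import Groth.Agent.ModPairCoprod.Basic
import Groth.Agent.FpqcDescent.IdealGlue
import Groth.Prelude.Def_BlowUp2
import Groth.Prelude.Def_ega3

/-!
# `Proj` of the Rees algebra is the blow-up of an affine scheme
-/

set_option autoImplicit false
set_option backward.isDefEq.respectTransparency false
set_option linter.style.haveILetI false

universe u

open CategoryTheory AlgebraicGeometry Limits TopologicalSpace Polynomial HomogeneousLocalization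

namespace Groth.Agent.BlowUpExist

variable {A : Type u} [CommRing A] (I : Ideal A)

local notation "𝒜" => Rees.deg (reesAlgebra I)

/-- the structure map -/
noncomputable def structMap : Proj 𝒜 ⟶ Spec (CommRingCat.of A) := Proj 𝒜 ↘ Spec (CommRingCat.of A)

/-- the ideal sheaf -/
noncomputable def sheafOf : (Spec (CommRingCat.of A)).IdealSheafData :=
  Scheme.IdealSheafData.ofIdealTop (I.map (Scheme.ΓSpecIso (CommRingCat.of A)).inv.hom)

/-- the chart of `a` -/
noncomputable def chart (a : A) (ha : a ∈ I) :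
    Spec (CommRingCat.of (HomogeneousLocalization.Away 𝒜 (tt I a ha))) ⟶ Proj 𝒜 :=
  Proj.awayι 𝒜 (tt I a ha) (tt_mem I a ha) one_pos

instance (a : A) (ha : a ∈ I) : IsOpenImmersion (chart I a ha) :=
  inferInstanceAs (IsOpenImmersion (Proj.awayι _ _ _ _))

lemma chart_structMap (a : A) (ha : a ∈ I) :
    chart I a ha ≫ structMap I = Spec.map (CommRingCat.ofHom (fromA I a ha)) := by
  show Proj.awayι 𝒜 _ (tt_mem I a ha) one_pos ≫ Proj.toSpecZero 𝒜 ≫ Spec.map _ = _
  rw [Proj.awayι_toSpecZero_assoc, ← Spec.map_comp]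
  rfl

lemma exists_chart (x : Proj 𝒜) : ∃ (a : A) (ha : a ∈ I), x ∈ (chart I a ha).opensRange := by
  let 𝒰 := Proj.affineOpenCoverOfIrrelevantLESpan 𝒜 (fun a : I => tt I (a : A) a.2) (m := fun _ => 1)
    (fun a => tt_mem I a a.2) (fun _ => one_pos) (irrelevant_le_span I)
  exact ⟨_, (𝒰.idx x : I).2, 𝒰.covers x⟩

lemma ideal_comap_specMap {R : Type u} [CommRing R] (ψ : A →+* R) :
    ((sheafOf I).comap (Spec.map (CommRingCat.ofHom ψ))).ideal ⟨⊤, isAffineOpen_top _⟩ =
      (I.map ψ).map (Scheme.ΓSpecIso (CommRingCat.of R)).inv.hom := by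
  have h0 : (sheafOf I).ideal ⟨⊤, isAffineOpen_top _⟩ =
      I.map (Scheme.ΓSpecIso (CommRingCat.of A)).inv.hom :=
    (Scheme.IdealSheafData.equivOfIsAffine (X := Spec (CommRingCat.of A))).apply_symm_apply _
  rw [FpqcDescent.ideal_comap_of_isAffine, h0, Ideal.map_map, Ideal.map_map]
  congr 1
  exact congrArg CommRingCat.Hom.hom (Scheme.ΓSpecIso_inv_naturality (CommRingCat.ofHom ψ)).symm

lemma cartier_specMap {R : Type u} [CommRing R] (ψ : A →+* R) (g : R) (hg : g ∈ nonZeroDivisors R)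
    (h : I.map ψ = Ideal.span {g}) :
    BlowUp.IsEffCartierIdeal ((sheafOf I).comap (Spec.map (CommRingCat.ofHom ψ))) := fun x => by
  let e := (Scheme.ΓSpecIso (CommRingCat.of R)).symm.commRingCatIsoToRingEquiv
  refine ⟨⟨⊤, isAffineOpen_top _⟩, trivial, e g, ?_, ?_⟩
  · suffices h' : ∀ z, z * e g = 0 → z = 0 from ⟨fun z hz => h' z ((mul_comm z (e g)).trans hz), h'⟩
    intro z hz
    obtain ⟨z, rfl⟩ := e.surjective z
    rw [← map_mul, map_eq_zero_iff _ e.injective] at hz
    rw [hg.2 z hz, map_zero]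
  · rw [ideal_comap_specMap, h, Ideal.map_span, Set.image_singleton]
    rfl

theorem cartier_comap_structMap : BlowUp.IsEffCartierIdeal ((sheafOf I).comap (structMap I)) := by
  let 𝒰 := (Proj.affineOpenCoverOfIrrelevantLESpan 𝒜 (fun a : I => tt I (a : A) a.2) (m := fun _ => 1)
    (fun a => tt_mem I a a.2) (fun _ => one_pos) (irrelevant_le_span I)).openCover
  refine ModPairCoprod.cartier_of_cover 𝒰 fun (a : I) => ?_
  rw [← Scheme.IdealSheafData.comap_comp, show 𝒰.f a ≫ structMap I = _ from chart_structMap I a a.2]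
  exact cartier_specMap I (fromA I a a.2) _ (fromA_mem_nonZeroDivisors I a a.2) (map_fromA_eq I a a.2)

/-! ### good charts of a morphism -/

/-- a chart of `g` on which `a` generates the ideal -/
structure GoodChart {W : Scheme.{u}} (g : W ⟶ Spec (CommRingCat.of A)) where
  R : Type u
  [cr : CommRing R]
  j : Spec (CommRingCat.of R) ⟶ W
  [hj : IsOpenImmersion j]
  ψ : A →+* R
  a : A
  ha : a ∈ I
  comp : j ≫ g = Spec.map (CommRingCat.ofHom ψ)
  hnzd : ψ a ∈ nonZeroDivisors R
  hgen : I.map ψ = Ideal.span {ψ a}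

attribute [instance] GoodChart.cr GoodChart.hj

lemma ideal_comap_fromSpec {X : Scheme.{u}} (J : X.IdealSheafData) (U : X.affineOpens) :
    (J.comap U.2.fromSpec).ideal ⟨⊤, isAffineOpen_top _⟩ =
      (J.ideal U).map (Scheme.ΓSpecIso Γ(X, U.1)).inv.hom := by
  rw [FpqcDescent.ideal_comap_affine J U.2.fromSpec U (by rw [U.2.fromSpec_preimage_self]),
    Scheme.Hom.appLE, U.2.fromSpec_app_self, Category.assoc, ← Functor.map_comp]
  congr 2

theorem exists_goodChart {W : Scheme.{u}} (g : W ⟶ Spec (CommRingCat.of A))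
    (hg : BlowUp.IsEffCartierIdeal ((sheafOf I).comap g)) (w : W) :
    ∃ c : GoodChart I g, w ∈ c.j.opensRange := by
  obtain ⟨U, hwU, f, hf, hfg⟩ := hg w
  let R := Γ(W, U.1)
  obtain ⟨ψ, hψ⟩ := Spec.map_surjective (U.2.fromSpec ≫ g)
  have hI : I.map ψ.hom = Ideal.span {f} := by
    have h1 := ideal_comap_fromSpec ((sheafOf I).comap g) U
    rw [← Scheme.IdealSheafData.comap_comp, ← hψ] at h1
    erw [ideal_comap_specMap I ψ.hom] at h1
    rw [hfg] at h1
    exact FpqcDescent.map_injective_of_bijective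
      (Scheme.ΓSpecIso R).symm.commRingCatIsoToRingEquiv.bijective h1
  obtain ⟨p, hp⟩ : ∃ p, U.2.fromSpec p = w := by
    have : w ∈ Set.range U.2.fromSpec := by rw [U.2.range_fromSpec]; exact hwU
    exact this
  have hex : ∃ a ∈ I, ∃ s : R, ψ.hom a = s * f ∧ s ∉ p.asIdeal := by
    by_contra hc
    push Not at hc
    have hle : I.map ψ.hom ≤ p.asIdeal * Ideal.span {f} := Ideal.map_le_iff_le_comap.2 fun a ha => by
      obtain ⟨s, hs⟩ := Ideal.mem_span_singleton'.1 (hI ▸ Ideal.mem_map_of_mem ψ.hom ha)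
      rw [Ideal.mem_comap, ← hs]
      exact Ideal.mul_mem_mul (hc a ha s hs.symm) (Ideal.mem_span_singleton_self f)
    obtain ⟨t, ht, htf⟩ := Ideal.mem_mul_span_singleton.1 (hle (hI ▸ Ideal.mem_span_singleton_self f))
    have : t = 1 := (mul_cancel_right_mem_nonZeroDivisors hf).1 (htf.trans (one_mul f).symm)
    exact p.isPrime.ne_top ((Ideal.eq_top_iff_one _).2 (this ▸ ht))
  obtain ⟨a, ha, s, hs, hsp⟩ := hex
  let φ : R →+* Localization.Away s := algebraMap R (Localization.Away s)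
  have hu : IsUnit (φ s) := IsLocalization.Away.algebraMap_isUnit s
  refine ⟨{ R := Localization.Away s
            j := Spec.map (CommRingCat.ofHom φ) ≫ U.2.fromSpec
            hj := ?_
            ψ := φ.comp ψ.hom
            a := a, ha := ha
            comp := by rw [Category.assoc, ← hψ, ← Spec.map_comp]; rfl
            hnzd := ?_
            hgen := ?_ }, ?_⟩
  · haveI : IsOpenImmersion (Spec.map (CommRingCat.ofHom φ)) := IsOpenImmersion.of_isLocalization s
    infer_instance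
  · rw [RingHom.comp_apply, hs, map_mul]
    exact mul_mem hu.mem_nonZeroDivisors
      (IsLocalization.map_nonZeroDivisors_le (Submonoid.powers s) (Localization.Away s) ⟨f, hf, rfl⟩)
  · rw [← Ideal.map_map, hI, Ideal.map_span, Set.image_singleton, RingHom.comp_apply, hs, map_mul]
    exact (Ideal.span_singleton_mul_left_unit hu _).symm
  · obtain ⟨q, hq⟩ : p ∈ Set.range (PrimeSpectrum.comap φ) := by
      rw [PrimeSpectrum.localization_away_comap_range (Localization.Away s) s]
      exact hsp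
    exact ⟨q, (congrArg U.2.fromSpec hq).trans hp⟩

/-- charts as an open cover -/
noncomputable abbrev goodCover {W : Scheme.{u}} (g : W ⟶ Spec (CommRingCat.of A))
    (hg : BlowUp.IsEffCartierIdeal ((sheafOf I).comap g)) : W.OpenCover :=
  Scheme.AffineOpenCover.openCover
  { I₀ := W
    X := fun w => CommRingCat.of (exists_goodChart I g hg w).choose.R
    f := fun w => (exists_goodChart I g hg w).choose.j
    idx := fun w => w
    covers := fun w => (exists_goodChart I g hg w).choose_spec }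

section Chart

variable {W : Scheme.{u}} {g : W ⟶ Spec (CommRingCat.of A)} (c : GoodChart I g)

/-- the lift on a chart -/
theorem exists_lift_chart :
    ∃ h : Spec (CommRingCat.of c.R) ⟶ Proj 𝒜, h ≫ structMap I = c.j ≫ g := by
  obtain ⟨χ, hχ⟩ := exists_chartHom I c.a c.ha c.ψ c.hnzd c.hgen
  refine ⟨Spec.map (CommRingCat.ofHom χ) ≫ chart I c.a c.ha, ?_⟩
  rw [Category.assoc, chart_structMap, c.comp, ← Spec.map_comp, ← CommRingCat.ofHom_comp, hχ]

theorem range_le_chart (h : Spec (CommRingCat.of c.R) ⟶ Proj 𝒜) (hh : h ≫ structMap I = c.j ≫ g)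
    (z : Spec (CommRingCat.of c.R)) : h z ∈ (chart I c.a c.ha).opensRange := by
  obtain ⟨a', ha', y, hy⟩ := exists_chart I (h z)
  obtain ⟨_, ⟨s, rfl⟩, hzs, hs⟩ := PrimeSpectrum.isTopologicalBasis_basic_opens.exists_subset_of_mem_open
    (show z ∈ h ⁻¹' Set.range (chart I a' ha') from ⟨y, hy⟩)
    ((chart I a' ha').isOpenEmbedding.isOpen_range.preimage h.continuous)
  let S := Localization.Away s
  let φ : c.R →+* S := algebraMap c.R S
  have hrange : Set.range (Spec.map (CommRingCat.ofHom φ) ≫ h) ⊆ Set.range (chart I a' ha') := by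
    rintro _ ⟨q, rfl⟩
    rw [Scheme.Hom.comp_apply]
    exact hs ((PrimeSpectrum.localization_away_comap_range S s).le ⟨q, rfl⟩)
  obtain ⟨χ', hχ'⟩ := Spec.map_surjective (IsOpenImmersion.lift (chart I a' ha') _ hrange)
  have hfac : Spec.map χ' ≫ chart I a' ha' = Spec.map (CommRingCat.ofHom φ) ≫ h := by
    rw [hχ']; exact IsOpenImmersion.lift_fac _ _ _
  have hcomp : χ'.hom.comp (fromA I a' ha') = φ.comp c.ψ := by
    have := hfac =≫ structMap I
    simp only [Category.assoc, chart_structMap, hh, c.comp, ← Spec.map_comp] at this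
    exact congrArg CommRingCat.Hom.hom (Spec.map_injective this)
  set ce : HomogeneousLocalization.Away 𝒜 (tt I a' ha') :=
    Away.isLocalizationElem (tt_mem I a' ha') (tt_mem I c.a c.ha) with hce
  have hmul : χ'.hom ce * φ (c.ψ a') = φ (c.ψ c.a) := by
    have e := congrArg χ'.hom (mul_fromA I a' ha' c.a c.ha)
    rw [map_mul, ← RingHom.comp_apply χ'.hom, ← RingHom.comp_apply χ'.hom (fromA I a' ha'), hcomp] at e
    have hce' : ce = Away.mk 𝒜 (tt_mem I a' ha') 1 (tt I c.a c.ha)
        (by simpa using tt_mem I c.a c.ha) := by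
      rw [hce]; ext; simp
    rw [hce']
    exact e
  obtain ⟨d, hd⟩ := Ideal.mem_span_singleton'.1 (c.hgen ▸ Ideal.mem_map_of_mem c.ψ ha')
  have hunit : IsUnit (χ'.hom ce) := by
    refine IsUnit.of_mul_eq_one (φ d) ((mul_cancel_right_mem_nonZeroDivisors (r := φ (c.ψ c.a)) ?_).1 ?_)
    · exact IsLocalization.map_nonZeroDivisors_le (Submonoid.powers s) S ⟨_, c.hnzd, rfl⟩
    · rw [one_mul, mul_assoc, ← map_mul, hd, hmul]
  obtain ⟨q, hq⟩ : z ∈ Set.range (PrimeSpectrum.comap φ) := by
    rw [PrimeSpectrum.localization_away_comap_range S s]; exact hzs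
  have hmem : Spec.map χ' q ∈ (chart I a' ha') ⁻¹ᵁ Proj.basicOpen 𝒜 (tt I c.a c.ha) := by
    change Spec.map χ' q ∈ Proj.awayι 𝒜 (tt I a' ha') (tt_mem I a' ha') one_pos ⁻¹ᵁ _
    rw [Proj.awayι_preimage_basicOpen 𝒜 (tt_mem I a' ha') one_pos (tt_mem I c.a c.ha) one_pos]
    exact fun hmem => q.isPrime.ne_top (Ideal.eq_top_of_isUnit_mem _ hmem hunit)
  show h z ∈ (Proj.awayι 𝒜 (tt I c.a c.ha) (tt_mem I c.a c.ha) one_pos).opensRange
  rw [Proj.opensRange_awayι]
  have e : chart I a' ha' (Spec.map χ' q) = h z := by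
    rw [← Scheme.Hom.comp_apply, hfac, Scheme.Hom.comp_apply]
    exact congrArg h hq
  exact e ▸ hmem

theorem lift_chart_unique (h h' : Spec (CommRingCat.of c.R) ⟶ Proj 𝒜)
    (hh : h ≫ structMap I = c.j ≫ g) (hh' : h' ≫ structMap I = c.j ≫ g) : h = h' := by
  have key : ∀ k : Spec (CommRingCat.of c.R) ⟶ Proj 𝒜, k ≫ structMap I = c.j ≫ g →
      ∃ χ : HomogeneousLocalization.Away 𝒜 (tt I c.a c.ha) →+* c.R,
        χ.comp (fromA I c.a c.ha) = c.ψ ∧
          Spec.map (CommRingCat.ofHom χ) ≫ chart I c.a c.ha = k := by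
    intro k hk
    have hr : Set.range k ⊆ Set.range (chart I c.a c.ha) := by
      rintro _ ⟨z, rfl⟩
      exact range_le_chart I c k hk z
    obtain ⟨χ, hχ⟩ := Spec.map_surjective (IsOpenImmersion.lift (chart I c.a c.ha) k hr)
    have hfac : Spec.map χ ≫ chart I c.a c.ha = k := by rw [hχ]; exact IsOpenImmersion.lift_fac _ _ _
    refine ⟨χ.hom, ?_, hfac⟩
    have := hfac =≫ structMap I
    rw [Category.assoc, chart_structMap, hk, c.comp, ← Spec.map_comp] at this
    exact congrArg CommRingCat.Hom.hom (Spec.map_injective this)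
  obtain ⟨χ, h1, rfl⟩ := key h hh
  obtain ⟨χ', h1', rfl⟩ := key h' hh'
  rw [chartHom_ext I c.a c.ha c.ψ c.hnzd χ χ' h1 h1']

end Chart

theorem lift_unique {W : Scheme.{u}} (g : W ⟶ Spec (CommRingCat.of A))
    (hg : BlowUp.IsEffCartierIdeal ((sheafOf I).comap g)) (h h' : W ⟶ Proj 𝒜)
    (hh : h ≫ structMap I = g) (hh' : h' ≫ structMap I = g) : h = h' :=
  (goodCover I g hg).hom_ext _ _ fun (w : W) =>
    lift_chart_unique I (exists_goodChart I g hg w).choose _ _
      (by rw [Category.assoc, hh]; rfl) (by rw [Category.assoc, hh']; rfl)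

theorem exists_lift {W : Scheme.{u}} (g : W ⟶ Spec (CommRingCat.of A))
    (hg : BlowUp.IsEffCartierIdeal ((sheafOf I).comap g)) : ∃ h : W ⟶ Proj 𝒜, h ≫ structMap I = g := by
  choose l hl using fun w : W => exists_lift_chart I (exists_goodChart I g hg w).choose
  let 𝒰 := goodCover I g hg
  have hl' : ∀ i : 𝒰.I₀, l i ≫ structMap I = 𝒰.f i ≫ g := hl
  refine ⟨𝒰.glueMorphisms l fun i k => ?_, 𝒰.hom_ext _ _ fun i => by
    rw [Scheme.Cover.ι_glueMorphisms_assoc, hl']⟩
  refine lift_unique I (pullback.fst (𝒰.f i) (𝒰.f k) ≫ 𝒰.f i ≫ g) ?_ _ _ ?_ ?_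
  · rw [Scheme.IdealSheafData.comap_comp, Scheme.IdealSheafData.comap_comp]
    exact BlowUpLib.cartier_comap_flat (BlowUpLib.cartier_comap_flat hg _) _
  · rw [Category.assoc, hl']
  · rw [Category.assoc, hl', pullback.condition_assoc]

/-- the affine blow-up -/
theorem isBlowUp_affine : BlowUp.IsBlowUp (structMap I) (sheafOf I) := by
  refine ⟨cartier_comap_structMap I, fun W g hg => ?_⟩
  obtain ⟨h, hh⟩ := exists_lift I g hg
  exact ⟨h, hh, fun h' hh' => lift_unique I g hg h' h hh' hh⟩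

end Groth.Agent.BlowUpExist
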