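import Groth.Agent.BlowUpExist.Affine
import Groth.Agent.SymAlg.OfAffine
import Groth.Agent.RelProjLib.Basic
import Groth.Agent.RelProjLib.Chart

/-!
The graded quasi-coherent Rees algebra of an ideal sheaf.
-/

set_option autoImplicit false
set_option backward.isDefEq.respectTransparency false
set_option backward.isDefEq.respectTransparency.types false
set_option linter.style.haveILetI false
set_option maxHeartbeats 1000000

universe u

open CategoryTheory CategoryTheory.Limits AlgebraicGeometry TopologicalSpace Opposite Polynomial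
open AlgebraicGeometry.Scheme AlgebraicGeometry.Scheme.AffineZariskiSite
open scoped HomogeneousIdeal

noncomputable section

namespace Groth.Agent.BlowUpExist

section Ring

variable {A B : Type u} [CommRing A] [CommRing B] (ρ : A →+* B) {I : Ideal A} {J : Ideal B} (h : I.map ρ = J)

include h in
theorem map_mem_rees (f : reesAlgebra I) : (f : A[X]).map ρ ∈ reesAlgebra J := fun n => by
  rw [coeff_map, ← h, ← Ideal.map_pow]
  exact Ideal.mem_map_of_mem ρ (f.2 n)

/-- functoriality of Rees algebras -/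
def reesMap : reesAlgebra I →+* reesAlgebra J :=
  ((Polynomial.mapRingHom ρ).comp (reesAlgebra I).val.toRingHom).codRestrict
    (reesAlgebra J).toSubring (map_mem_rees ρ h)

theorem coe_reesMap (f : reesAlgebra I) : ((reesMap ρ h f : reesAlgebra J) : B[X]) = (f : A[X]).map ρ := rfl

theorem reesMap_algebraMap (r : A) :
    reesMap ρ h (algebraMap A (reesAlgebra I) r) = algebraMap B (reesAlgebra J) (ρ r) := by
  refine Subtype.ext ?_
  rw [coe_reesMap]
  simp [Polynomial.algebraMap_apply]

theorem reesMap_mem_deg {n : ℕ} {f : reesAlgebra I} (hf : f ∈ Rees.deg (reesAlgebra I) n) :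
    reesMap ρ h f ∈ Rees.deg (reesAlgebra J) n := fun m hm => by
  rw [coe_reesMap, coeff_map, hf m hm, map_zero]

include h in
/-- Rees algebras commute with localisation -/
theorem isLocalization_reesMap (r : A) (hloc : letI := ρ.toAlgebra; IsLocalization.Away r B) :
    letI := (reesMap ρ h).toAlgebra
    IsLocalization.Away (algebraMap A (reesAlgebra I) r) (reesAlgebra J) := by
  letI := (reesMap ρ h).toAlgebra
  letI algB := ρ.toAlgebra
  haveI := hloc
  have hpow : ∀ n : ℕ, reesMap ρ h (algebraMap A (reesAlgebra I) r ^ n) =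
      algebraMap B (reesAlgebra J) (ρ r ^ n) := fun n => by
    rw [map_pow, reesMap_algebraMap, map_pow]
  refine ⟨?_⟩
  refine ⟨?_, ?_, ?_⟩
  · rintro ⟨_, n, rfl⟩
    show IsUnit (reesMap ρ h (algebraMap A (reesAlgebra I) r ^ n))
    rw [hpow]
    exact ((IsLocalization.Away.algebraMap_isUnit (S := B) r).pow n).map _
  · intro f
    suffices H : ∀ (g : B[X]) (hg : g ∈ reesAlgebra J), ∃ (n : ℕ) (a : reesAlgebra I),
        g * C (ρ r ^ n) = ((reesMap ρ h a : reesAlgebra J) : B[X]) by
      obtain ⟨n, a, ha⟩ := H _ f.2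
      refine ⟨⟨a, ⟨_, n, rfl⟩⟩, Subtype.ext ?_⟩
      show ((f * reesMap ρ h (algebraMap A (reesAlgebra I) r ^ n) : reesAlgebra J) : B[X]) =
        ((reesMap ρ h a : reesAlgebra J) : B[X])
      rw [hpow, Subalgebra.coe_mul, Subalgebra.coe_algebraMap, Polynomial.algebraMap_eq]
      exact ha
    intro g hg
    have key : ∀ s : Finset ℕ, ∃ (n : ℕ) (a : reesAlgebra I),
        (∑ m ∈ s, monomial m (g.coeff m)) * C (ρ r ^ n) = ((reesMap ρ h a : reesAlgebra J) : B[X]) := by
      classical
      intro s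
      induction s using Finset.induction_on with
      | empty => exact ⟨0, 0, by simp⟩
      | insert m s hm ih =>
        obtain ⟨n, a, ha⟩ := ih
        have hmem : g.coeff m ∈ (I ^ m).map (algebraMap A B) := by
          show g.coeff m ∈ (I ^ m).map ρ
          rw [Ideal.map_pow, h]
          exact hg m
        obtain ⟨⟨c, ⟨_, k, rfl⟩⟩, hc⟩ := (IsLocalization.mem_map_algebraMap_iff (Submonoid.powers r) B).1 hmem
        refine ⟨n + k, algebraMap A (reesAlgebra I) (r ^ k) * a +
          algebraMap A (reesAlgebra I) (r ^ n) * mono I m c c.2, ?_⟩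
        have hc' : g.coeff m * ρ (r ^ k) = ρ c := hc
        rw [map_add, map_mul, map_mul, Subalgebra.coe_add, Subalgebra.coe_mul, Subalgebra.coe_mul,
          reesMap_algebraMap, reesMap_algebraMap, Subalgebra.coe_algebraMap, Subalgebra.coe_algebraMap,
          Polynomial.algebraMap_eq, ← ha, coe_reesMap ρ h (mono I m c c.2), Finset.sum_insert hm]
        have e : (mono I m c c.2 : A[X]).map ρ = monomial m (g.coeff m) * C (ρ (r ^ k)) := by
          rw [monomial_mul_C, hc']
          exact Polynomial.map_monomial ρ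
        rw [e]
        simp only [map_pow, pow_add, map_mul]
        ring
    obtain ⟨n, a, ha⟩ := key g.support
    exact ⟨n, a, by rw [← ha, ← Polynomial.as_sum_support]⟩
  · intro x y hxy
    change reesMap ρ h x = reesMap ρ h y at hxy
    have hco : ∀ m, ∃ k : ℕ, r ^ k * (x : A[X]).coeff m = r ^ k * (y : A[X]).coeff m := fun m => by
      have := congrArg (fun z : reesAlgebra J => (z : B[X]).coeff m) hxy
      simp only [coe_reesMap, coeff_map] at this
      obtain ⟨⟨_, k, rfl⟩, hk⟩ := (IsLocalization.eq_iff_exists (Submonoid.powers r) B).1 this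
      exact ⟨k, hk⟩
    choose k hk using hco
    let s := (x : A[X]).support ∪ (y : A[X]).support
    refine ⟨⟨_, s.sup k, rfl⟩, Subtype.ext (Polynomial.ext fun m => ?_)⟩
    show (((algebraMap A (reesAlgebra I) r) ^ s.sup k * x : reesAlgebra I) : A[X]).coeff m =
      (((algebraMap A (reesAlgebra I) r) ^ s.sup k * y : reesAlgebra I) : A[X]).coeff m
    rw [← map_pow, Subalgebra.coe_mul, Subalgebra.coe_mul, Subalgebra.coe_algebraMap, Polynomial.algebraMap_eq,
      coeff_C_mul, coeff_C_mul]
    by_cases hm : m ∈ s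
    · obtain ⟨t, ht⟩ := Nat.exists_eq_add_of_le (Finset.le_sup (f := k) hm)
      rw [ht, pow_add, mul_comm (r ^ k m), mul_assoc, mul_assoc, hk m]
    · simp only [s, Finset.mem_union, not_or, Polynomial.mem_support_iff, not_not] at hm
      rw [hm.1, hm.2]

/-- transport of a grading along a ring isomorphism -/
abbrev pullDeg {R R' : Type u} [CommRing R] [CommRing R'] [Algebra A R'] (𝒢 : ℕ → Submodule A R')
    (e : R ≃+* R') (d : ℕ) : AddSubgroup R :=
  (𝒢 d).toAddSubgroup.comap e.toAddEquiv.toAddMonoidHom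

/-- transport of a grading along a ring isomorphism -/
def gradedPull {R R' : Type u} [CommRing R] [CommRing R'] [Algebra A R'] (𝒢 : ℕ → Submodule A R')
    [GradedAlgebra 𝒢] (e : R ≃+* R') : GradedRing (pullDeg 𝒢 e) :=
  haveI : SetLike.GradedMonoid (pullDeg 𝒢 e) :=
    { one_mem := by
        show e 1 ∈ 𝒢 0
        rw [map_one]
        exact SetLike.one_mem_graded 𝒢
      mul_mem := fun {i j x y} hx hy => by
        show e (x * y) ∈ 𝒢 (i + j)
        rw [map_mul]
        exact SetLike.mul_mem_graded hx hy }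
  let f : ∀ d, 𝒢 d →+ pullDeg 𝒢 e d := fun d =>
    AddMonoidHom.mk' (fun x => ⟨e.symm (x : R'), show e (e.symm (x : R')) ∈ 𝒢 d by
      rw [e.apply_symm_apply]; exact x.2⟩) fun a b => Subtype.ext (map_add e.symm (a : R') (b : R'))
  { (inferInstance : SetLike.GradedMonoid (pullDeg 𝒢 e)) with
    decompose' := fun x => DirectSum.map f (DirectSum.decompose 𝒢 (e x))
    left_inv := fun x => by
      have : (DirectSum.coeAddMonoidHom (pullDeg 𝒢 e)).comp (DirectSum.map f) =
          e.symm.toAddEquiv.toAddMonoidHom.comp (DirectSum.coeAddMonoidHom 𝒢) := by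
        refine DirectSum.addHom_ext fun i y => ?_
        simp [f]
      refine (DFunLike.congr_fun this _).trans ?_
      show e.symm (DirectSum.coeAddMonoidHom 𝒢 (DirectSum.decompose 𝒢 (e x))) = x
      rw [show DirectSum.coeAddMonoidHom 𝒢 (DirectSum.decompose 𝒢 (e x)) = e x from
        DirectSum.Decomposition.left_inv (e x), e.symm_apply_apply]
    right_inv := fun z => by
      induction z using DirectSum.induction_on with
      | zero => simp
      | of i y =>
        have hy : e (y : R) ∈ 𝒢 i := y.2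
        simp only [DirectSum.coeAddMonoidHom_of]
        rw [DirectSum.decompose_of_mem 𝒢 hy, DirectSum.map_of]
        refine congrArg _ (Subtype.ext ?_)
        exact e.symm_apply_apply _
      | add a b ha hb =>
        show DirectSum.map f (DirectSum.decompose 𝒢 (e (DirectSum.coeAddMonoidHom _ (a + b)))) = a + b
        rw [map_add, map_add, DirectSum.decompose_add, map_add]
        exact congrArg₂ (· + ·) ha hb }

end Ring

variable {X : Scheme.{u}} (𝓘 : X.IdealSheafData)

/-- the ideal of an affine open -/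
abbrev idl (U : X.AffineZariskiSite) : Ideal Γ(X, U.1) := 𝓘.ideal ⟨U.1, U.2⟩

/-- the Rees algebras on the affine opens -/
def reesFun : X.AffineZariskiSiteᵒᵖ ⥤ CommRingCat.{u} where
  obj U := CommRingCat.of (reesAlgebra (idl 𝓘 U.unop))
  map {U V} i := CommRingCat.ofHom (reesMap (QC.resO X (toOpens_mono (leOfHom i.unop)))
    (𝓘.map_ideal (U := ⟨V.unop.1, V.unop.2⟩) (V := ⟨U.unop.1, U.unop.2⟩) (toOpens_mono (leOfHom i.unop))))
  map_id U := by
    refine CommRingCat.hom_ext (RingHom.ext fun f => Subtype.ext (Polynomial.ext fun n => ?_))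
    exact (coeff_map _ _).trans (QC.resO_self _ _)
  map_comp {U V W} i k := by
    refine CommRingCat.hom_ext (RingHom.ext fun f => Subtype.ext (Polynomial.ext fun n => ?_))
    refine (coeff_map _ _).trans ?_
    refine Eq.trans ?_ (coeff_map _ _).symm
    refine Eq.trans ?_ (congrArg _ (coeff_map _ _).symm)
    exact (QC.resO_resO _ _ _).symm

/-- the structure map -/
def reesStr : (toOpensFunctor X).op ⋙ X.presheaf ⟶ reesFun 𝓘 where
  app U := CommRingCat.ofHom (algebraMap Γ(X, U.unop.1) (reesAlgebra (idl 𝓘 U.unop)))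
  naturality U V i := CommRingCat.hom_ext (RingHom.ext fun r =>
    (reesMap_algebraMap (QC.resO X (toOpens_mono (leOfHom i.unop)))
      (𝓘.map_ideal (U := ⟨V.unop.1, V.unop.2⟩) (V := ⟨U.unop.1, U.unop.2⟩) (toOpens_mono (leOfHom i.unop))) r).symm)

theorem coequifibered_reesStr : (reesStr 𝓘).Coequifibered :=
  coequifibered_iff_forall_isLocalizationAway.mpr fun U r => by
    exact isLocalization_reesMap (QC.resO X (X.basicOpen_le r))
      (𝓘.map_ideal (U := ⟨X.basicOpen r, U.2.basicOpen r⟩) (V := ⟨U.1, U.2⟩) (X.basicOpen_le r)) r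
      (U.2.isLocalization_basicOpen r)

variable {𝓘} {Q : RelSpec.QCAlg X} (γ : (toOpensFunctor X).op ⋙ Q.presheaf ≅ reesFun 𝓘)
  (hγ : Functor.whiskerLeft (toOpensFunctor X).op Q.str ≫ γ.hom = reesStr 𝓘)

/-- the identification over an affine open -/
def secEquiv (U : X.Opens) (hU : IsAffineOpen U) :
    Q.presheaf.obj (op U) ≃+* reesAlgebra (idl 𝓘 ⟨U, hU⟩) :=
  (γ.app (op (⟨U, hU⟩ : X.AffineZariskiSite))).commRingCatIsoToRingEquiv

theorem secEquiv_apply (U : X.Opens) (hU : IsAffineOpen U) (x : Q.presheaf.obj (op U)) :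
    secEquiv γ U hU x = (γ.hom.app (op (⟨U, hU⟩ : X.AffineZariskiSite))).hom x := rfl

include hγ in
theorem secEquiv_str (U : X.Opens) (hU : IsAffineOpen U) (r : Γ(X, U)) :
    secEquiv γ U hU ((Q.str.app (op U)).hom r) = algebraMap _ (reesAlgebra (idl 𝓘 ⟨U, hU⟩)) r := by
  have h := congr($(NatTrans.congr_app hγ (op (⟨U, hU⟩ : X.AffineZariskiSite))) r)
  exact h

theorem secEquiv_res {U V : X.Opens} (hU : IsAffineOpen U) (hV : IsAffineOpen V) (i : V ≤ U)
    (x : Q.presheaf.obj (op U)) :
    secEquiv γ V hV ((Q.presheaf.map (homOfLE i).op).hom x) =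
      reesMap (QC.resO X i) (𝓘.map_ideal (U := ⟨V, hV⟩) (V := ⟨U, hU⟩) i) (secEquiv γ U hU x) := by
  refine Subtype.ext (Polynomial.ext fun n => ?_)
  rw [coe_reesMap, coeff_map]
  refine TopCat.Sheaf.eq_of_locally_eq' X.sheaf
    (fun g : {g : Γ(X, V) // ∃ f : Γ(X, U), X.basicOpen f = X.basicOpen g} => X.basicOpen g.1) V
    (fun g => homOfLE (X.basicOpen_le g.1)) (fun y hy => ?_) _ _ fun g => ?_
  · obtain ⟨f, g, hfg, hyf⟩ := exists_basicOpen_le_affine_inter hU hV y ⟨i hy, hy⟩
    exact Opens.mem_iSup.2 ⟨⟨g, f, hfg⟩, hfg ▸ hyf⟩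
  · obtain ⟨g, f, hfg⟩ := g
    let W : X.AffineZariskiSite := ⟨X.basicOpen g, hV.basicOpen g⟩
    let iU : W ⟶ (⟨U, hU⟩ : X.AffineZariskiSite) := homOfLE ⟨f, hfg⟩
    let iV : W ⟶ (⟨V, hV⟩ : X.AffineZariskiSite) := homOfLE ⟨g, rfl⟩
    have nU := congr($(γ.hom.naturality iU.op) x)
    have nV := congr($(γ.hom.naturality iV.op) ((Q.presheaf.map (homOfLE i).op).hom x))
    have e : (Q.presheaf.map (homOfLE (X.basicOpen_le g)).op).hom ((Q.presheaf.map (homOfLE i).op).hom x) =
        (Q.presheaf.map (homOfLE ((X.basicOpen_le g).trans i)).op).hom x := by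
      rw [← CommRingCat.comp_apply, ← Functor.map_comp]; rfl
    have key := nV.symm.trans ((congrArg (γ.hom.app (op W)).hom e).trans nU)
    have key' := congrArg (fun p : reesAlgebra (idl 𝓘 W) => (p : Γ(X, W.1)[X]).coeff n) key
    refine (coeff_map _ _).symm.trans (key'.trans ((coeff_map _ _).trans ?_))
    exact (QC.resO_resO (X.basicOpen_le g) i _).symm

/-- the graded Rees algebra -/
def reesGr : RelProj.QCGrAlg X where
  toQCAlg := Q
  deg U hU := pullDeg (Rees.deg (reesAlgebra (idl 𝓘 ⟨U, hU⟩))) (secEquiv γ U hU)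
  graded U hU := gradedPull _ _
  map_mem {U V} hU hV i {d x} hx :=
    Eq.mpr (congrArg (· ∈ Rees.deg (reesAlgebra (idl 𝓘 ⟨V, hV⟩)) d) (secEquiv_res γ hU hV i x))
      (reesMap_mem_deg _ _ hx)
  str_mem U hU r := by
    refine Eq.mpr (congrArg (· ∈ Rees.deg (reesAlgebra (idl 𝓘 ⟨U, hU⟩)) 0) (secEquiv_str γ hγ U hU r)) ?_
    intro m hm
    have hm' : m ≠ 0 := hm
    rw [Subalgebra.coe_algebraMap, Polynomial.algebraMap_eq, coeff_C, if_neg hm']

end Groth.Agent.BlowUpExist
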